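import Cfsg.Agent.Lib.Helper5.LieOrd.Prods
import Cfsg.Agent.S0243
import Cfsg.Agent.S0245
import Cfsg.Agent.S0246
import Cfsg.Agent.S0280
import Cfsg.Agent.S0292
import Cfsg.Agent.S0293
import Cfsg.Agent.S0294

set_option autoImplicit false

namespace Cfsg.Agent.Lib.Helper5.LieOrd

open Finset

variable {p : ℕ}

theorem psl_bounds (hp : p.Prime) (F : Type) [Field F] [Fintype F] [CharP F p] (n : ℕ) (hn : 2 ≤ n) :
    Nat.card (Matrix.ProjectiveSpecialLinearGroup (Fin n) F) <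
        p ^ (3 * (Nat.card (Matrix.ProjectiveSpecialLinearGroup (Fin n) F)).factorization p) ∧
    (3 ≤ n → Nat.card (Matrix.ProjectiveSpecialLinearGroup (Fin n) F) ^ 3 <
        p ^ (8 * (Nat.card (Matrix.ProjectiveSpecialLinearGroup (Fin n) F)).factorization p)) ∧
    (n = 2 → Fintype.card F =
        p ^ (Nat.card (Matrix.ProjectiveSpecialLinearGroup (Fin n) F)).factorization p) := by
  obtain ⟨e, he⟩ := card_eq_pow F p
  obtain ⟨q, hqF⟩ : ∃ q, Fintype.card F = q := ⟨_, rfl⟩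
  rw [hqF] at he
  have hq2 : 2 ≤ q := hqF ▸ Fintype.one_lt_card
  obtain ⟨k, rfl⟩ : ∃ k, n = k + 1 := ⟨n - 1, by omega⟩
  have hk : 1 ≤ k := by omega
  obtain ⟨c, hc⟩ : ∃ c, c = Nat.card (Matrix.ProjectiveSpecialLinearGroup (Fin (k + 1)) F) := ⟨_, rfl⟩
  have hc0 : 0 < c := hc ▸ Nat.card_pos
  have hform := Cfsg.Agent.S0243.result (F := F) hqF (k + 1) hn
  rw [← hc, prod_GL_succ] at hform
  rw [← hc, hqF]
  have hq1 : 0 < q - 1 := by omega
  have heq : Nat.gcd (k + 1) (q - 1) * c =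
      q ^ (∑ i ∈ range (k + 1), i) * ∏ i ∈ range k, (q ^ (i + 2) - 1) := by
    apply Nat.eq_of_mul_eq_mul_left hq1
    rw [← hform]; ring
  have hcop : Nat.Coprime q (Nat.gcd (k + 1) (q - 1)) :=
    cop_sub (a := 1) (by omega) le_rfl (by rw [pow_one]; exact Nat.gcd_dvd_right _ _)
  have hd0 : 0 < Nat.gcd (k + 1) (q - 1) := Nat.gcd_pos_of_pos_left _ (by omega)
  obtain ⟨h1, h2⟩ := bounds_of_eq hp he hc0 heq hcop hd0 (prod_sub_one_lt hq2 (fun i => i + 2) k hk)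
  have hB := two_mul_sum_add_two k
  have hN := two_mul_sum_id k
  refine ⟨h1 (by nlinarith), fun h3 => h2 (by nlinarith), fun h2' => ?_⟩
  obtain rfl : k = 1 := by omega
  have hpq : p ∣ q := dvd_of_eq_pow he hq2
  have hfac := factorization_of_eq hp he hc0 heq (hcop.coprime_dvd_left hpq) hd0
    ((cop_sub (q := q) (a := 2) (by omega) (by omega) (by simp)).coprime_dvd_left hpq)
  rw [hfac, he]
  simp [Finset.sum_range_succ]

theorem psp_bounds (hp : p.Prime) (F : Type) [Field F] [Fintype F] [CharP F p] (m : ℕ) (hm : 2 ≤ m) :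
    Nat.card (Cfsg.PSp m F) < p ^ (3 * (Nat.card (Cfsg.PSp m F)).factorization p) ∧
    Nat.card (Cfsg.PSp m F) ^ 3 < p ^ (8 * (Nat.card (Cfsg.PSp m F)).factorization p) := by
  obtain ⟨e, he⟩ := card_eq_pow F p
  obtain ⟨q, hqF⟩ : ∃ q, Fintype.card F = q := ⟨_, rfl⟩
  rw [hqF] at he
  have hq2 : 2 ≤ q := hqF ▸ Fintype.one_lt_card
  obtain ⟨c, hc⟩ : ∃ c, c = Nat.card (Cfsg.PSp m F) := ⟨_, rfl⟩
  have hc0 : 0 < c := hc ▸ Nat.card_pos
  have h1 := Cfsg.Agent.S0245.result (F := F) hqF m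
  have h2 := Cfsg.Agent.S0246.result (F := F) hqF m (by omega)
  have h3 := Subgroup.card_eq_card_quotient_mul_card_subgroup
    (Subgroup.center (Matrix.symplecticGroup (Fin m) F))
  rw [h1, h2] at h3
  rw [← hc]
  have heq : Nat.gcd 2 (q - 1) * c = q ^ (m ^ 2) * ∏ i ∈ range m, (q ^ (2 * (i + 1)) - 1) := by
    rw [h3, hc, mul_comm]
  have hcop : Nat.Coprime q (Nat.gcd 2 (q - 1)) :=
    cop_sub (a := 1) (by omega) le_rfl (by rw [pow_one]; exact Nat.gcd_dvd_right _ _)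
  have hd0 : 0 < Nat.gcd 2 (q - 1) := Nat.gcd_pos_of_pos_left _ (by omega)
  obtain ⟨b1, b2⟩ := bounds_of_eq hp he hc0 heq hcop hd0
    (prod_sub_one_lt hq2 (fun i => 2 * (i + 1)) m (by omega))
  have hB := sum_two_mul_succ m
  exact ⟨b1 (by nlinarith), b2 (by nlinarith)⟩

theorem podd_bounds (hp : p.Prime) (F : Type) [Field F] [Fintype F] [CharP F p] (m : ℕ) (hm : 3 ≤ m)
    (hodd : Odd (Fintype.card F)) :
    Nat.card (Cfsg.POmega F (Cfsg.quadFormOdd m F)) <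
        p ^ (3 * (Nat.card (Cfsg.POmega F (Cfsg.quadFormOdd m F))).factorization p) ∧
    Nat.card (Cfsg.POmega F (Cfsg.quadFormOdd m F)) ^ 3 <
        p ^ (8 * (Nat.card (Cfsg.POmega F (Cfsg.quadFormOdd m F))).factorization p) := by
  obtain ⟨e, he⟩ := card_eq_pow F p
  obtain ⟨q, hqF⟩ : ∃ q, Fintype.card F = q := ⟨_, rfl⟩
  rw [hqF] at he hodd
  have hq2 : 2 ≤ q := hqF ▸ Fintype.one_lt_card
  obtain ⟨c, hc⟩ : ∃ c, c = Nat.card (Cfsg.POmega F (Cfsg.quadFormOdd m F)) := ⟨_, rfl⟩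
  have hc0 : 0 < c := hc ▸ Nat.card_pos
  have heq := Cfsg.Agent.S0292.result (F := F) hqF hodd m hm
  rw [← hc] at heq ⊢
  obtain ⟨b1, b2⟩ := bounds_of_eq hp he hc0 heq (Nat.coprime_two_right.mpr hodd) (by norm_num)
    (prod_sub_one_lt hq2 (fun i => 2 * (i + 1)) m (by omega))
  have hB := sum_two_mul_succ m
  exact ⟨b1 (by nlinarith), b2 (by nlinarith)⟩

theorem pplus_bounds (hp : p.Prime) (F : Type) [Field F] [Fintype F] [CharP F p] (m : ℕ) (hm : 4 ≤ m) :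
    Nat.card (Cfsg.POmega F (Cfsg.quadFormPlus m F)) <
        p ^ (3 * (Nat.card (Cfsg.POmega F (Cfsg.quadFormPlus m F))).factorization p) ∧
    Nat.card (Cfsg.POmega F (Cfsg.quadFormPlus m F)) ^ 3 <
        p ^ (8 * (Nat.card (Cfsg.POmega F (Cfsg.quadFormPlus m F))).factorization p) := by
  obtain ⟨e, he⟩ := card_eq_pow F p
  obtain ⟨q, hqF⟩ : ∃ q, Fintype.card F = q := ⟨_, rfl⟩
  rw [hqF] at he
  have hq2 : 2 ≤ q := hqF ▸ Fintype.one_lt_card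
  obtain ⟨c, hc⟩ : ∃ c, c = Nat.card (Cfsg.POmega F (Cfsg.quadFormPlus m F)) := ⟨_, rfl⟩
  have hc0 : 0 < c := hc ▸ Nat.card_pos
  have heq := Cfsg.Agent.S0293.result (F := F) hqF m hm
  rw [← hc, mul_assoc] at heq
  rw [← hc]
  obtain ⟨j, rfl⟩ : ∃ j, m = j + 1 := ⟨m - 1, by omega⟩
  rw [Nat.add_sub_cancel] at heq
  have hcop : Nat.Coprime q (Nat.gcd 4 (q ^ (j + 1) - 1)) :=
    cop_sub (a := j + 1) (by omega) (by omega) (Nat.gcd_dvd_right _ _)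
  have hd0 : 0 < Nat.gcd 4 (q ^ (j + 1) - 1) := Nat.gcd_pos_of_pos_left _ (by omega)
  obtain ⟨b1, b2⟩ := bounds_of_eq hp he hc0 heq hcop hd0
    (mul_lt_pow (sub_one_lt_pow hq2) (prod_sub_one_lt hq2 (fun i => 2 * (i + 1)) j (by omega)))
  have hB := sum_two_mul_succ j
  have hj : 3 ≤ j := by omega
  exact ⟨b1 (by nlinarith), b2 (by nlinarith)⟩

theorem pminus_bounds (hp : p.Prime) (F : Type) [Field F] [Fintype F] [CharP F p] (m : ℕ) (hm : 4 ≤ m)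
    (a b : F) (hab : ∀ z₁ z₂ : F, z₁ ^ 2 + a * z₁ * z₂ + b * z₂ ^ 2 = 0 → z₁ = 0 ∧ z₂ = 0) :
    Nat.card (Cfsg.POmega F (Cfsg.quadFormMinus (m - 1) F a b)) <
        p ^ (3 * (Nat.card (Cfsg.POmega F (Cfsg.quadFormMinus (m - 1) F a b))).factorization p) ∧
    Nat.card (Cfsg.POmega F (Cfsg.quadFormMinus (m - 1) F a b)) ^ 3 <
        p ^ (8 * (Nat.card (Cfsg.POmega F (Cfsg.quadFormMinus (m - 1) F a b))).factorization p) := by
  obtain ⟨e, he⟩ := card_eq_pow F p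
  obtain ⟨q, hqF⟩ : ∃ q, Fintype.card F = q := ⟨_, rfl⟩
  rw [hqF] at he
  have hq2 : 2 ≤ q := hqF ▸ Fintype.one_lt_card
  obtain ⟨c, hc⟩ : ∃ c, c = Nat.card (Cfsg.POmega F (Cfsg.quadFormMinus (m - 1) F a b)) := ⟨_, rfl⟩
  have hc0 : 0 < c := hc ▸ Nat.card_pos
  have heq := Cfsg.Agent.S0294.result (F := F) hqF m hm a b hab
  rw [← hc, mul_assoc] at heq
  rw [← hc]
  obtain ⟨j, hj⟩ : ∃ j, m - 1 = j := ⟨_, rfl⟩
  obtain rfl : m = j + 1 := by omega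
  rw [hj] at heq
  have hcop : Nat.Coprime q (Nat.gcd 4 (q ^ (j + 1) + 1)) :=
    cop_add (a := j + 1) (by omega) (Nat.gcd_dvd_right _ _)
  have hd0 : 0 < Nat.gcd 4 (q ^ (j + 1) + 1) := Nat.gcd_pos_of_pos_left _ (by omega)
  obtain ⟨b1, b2⟩ := bounds_of_eq hp he hc0 heq hcop hd0
    (mul_lt_pow (add_one_lt_pow hq2 (by omega)) (prod_sub_one_lt hq2 (fun i => 2 * (i + 1)) j (by omega)))
  have hB := sum_two_mul_succ j
  have hj3 : 3 ≤ j := by omega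
  exact ⟨b1 (by nlinarith), b2 (by nlinarith)⟩

theorem psu_bounds (hp : p.Prime) (F : Type) [Field F] [Fintype F] [CharP F p] (n q : ℕ)
    (hF : Fintype.card F = q ^ 2) (hn : 3 ≤ n) :
    Nat.card (Cfsg.PSU n F q) < p ^ (3 * (Nat.card (Cfsg.PSU n F q)).factorization p) ∧
    Nat.card (Cfsg.PSU n F q) ^ 3 < p ^ (8 * (Nat.card (Cfsg.PSU n F q)).factorization p) := by
  obtain ⟨f, hf⟩ := card_eq_pow F p
  rw [hF] at hf
  obtain ⟨e, he⟩ := eq_pow_of_pow_eq hp (j := 2) (by norm_num) hf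
  have hq2 : 2 ≤ q := by
    have h : 2 ≤ q ^ 2 := hF ▸ Fintype.one_lt_card
    by_contra hlt
    have : q ≤ 1 := by omega
    have : q ^ 2 ≤ 1 ^ 2 := Nat.pow_le_pow_left this 2
    omega
  obtain ⟨c, hc⟩ : ∃ c, c = Nat.card (Cfsg.PSU n F q) := ⟨_, rfl⟩
  have hc0 : 0 < c := hc ▸ Nat.card_pos
  have hform := Cfsg.Agent.S0280.result (F := F) hF n (by omega)
  rw [← hc] at hform ⊢
  obtain ⟨k, rfl⟩ : ∃ k, n = k + 1 := ⟨n - 1, by omega⟩
  rw [prodU_succ] at hform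
  have heq : Nat.gcd (k + 1) (q + 1) * c =
      q ^ ((k + 1) * (k + 1 - 1) / 2) * ∏ i ∈ range k, fU q (i + 1) := by
    apply Nat.eq_of_mul_eq_mul_left (show 0 < q + 1 by omega)
    rw [mul_left_comm, hform]; ring
  have hcop : Nat.Coprime q (Nat.gcd (k + 1) (q + 1)) :=
    cop_add (a := 1) le_rfl (by rw [pow_one]; exact Nat.gcd_dvd_right _ _)
  have hd0 : 0 < Nat.gcd (k + 1) (q + 1) := Nat.gcd_pos_of_pos_left _ (by omega)
  obtain ⟨b1, b2⟩ := bounds_of_eq hp he hc0 heq hcop hd0 (prodU_lt hq2 k (by omega))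
  have hB := two_mul_sum_add_two k
  have hN := two_mul_tri k
  have hk : 2 ≤ k := by omega
  exact ⟨b1 (by nlinarith), b2 (by nlinarith)⟩

end Cfsg.Agent.Lib.Helper5.LieOrd
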