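import Mathlib

set_option autoImplicit false

namespace Cfsg.Agent.Lib.Helper5.LieOrd

/-- The basic arithmetic: if `q = p^e`, `q^N ∣ c` and `c < q^A` with `A ≤ 3N`, `3A ≤ 8N`, then both bounds. -/
theorem both_bounds {p : ℕ} (hp : p.Prime) {q e N A c : ℕ} (hq : q = p ^ e) (hc : 0 < c)
    (hdvd : q ^ N ∣ c) (hlt : c < q ^ A) :
    (A ≤ 3 * N → c < p ^ (3 * c.factorization p)) ∧
    (3 * A ≤ 8 * N → c ^ 3 < p ^ (8 * c.factorization p)) := by
  subst hq
  have hk : e * N ≤ c.factorization p := by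
    rw [← pow_mul] at hdvd
    exact (hp.pow_dvd_iff_le_factorization hc.ne').mp hdvd
  have hp1 : 1 ≤ p := hp.one_lt.le
  rw [← pow_mul] at hlt
  constructor
  · intro h1
    refine lt_of_lt_of_le hlt (Nat.pow_le_pow_right hp1 ?_)
    calc e * A ≤ e * (3 * N) := Nat.mul_le_mul_left _ h1
      _ = 3 * (e * N) := by ring
      _ ≤ 3 * c.factorization p := Nat.mul_le_mul_left _ hk
  · intro h2
    have h3 : c ^ 3 < (p ^ (e * A)) ^ 3 := Nat.pow_lt_pow_left hlt (by norm_num)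
    rw [← pow_mul] at h3
    refine lt_of_lt_of_le h3 (Nat.pow_le_pow_right hp1 ?_)
    calc e * A * 3 = e * (3 * A) := by ring
      _ ≤ e * (8 * N) := Nat.mul_le_mul_left _ h2
      _ = 8 * (e * N) := by ring
      _ ≤ 8 * c.factorization p := Nat.mul_le_mul_left _ hk

/-- From an order formula `d * c = q^N * P` with `d` prime to `q` and `P < q^B`. -/
theorem bounds_of_eq {p : ℕ} (hp : p.Prime) {q e N B c d P : ℕ} (hq : q = p ^ e) (hc : 0 < c)
    (heq : d * c = q ^ N * P) (hd : Nat.Coprime q d) (hd0 : 0 < d) (hP : P < q ^ B) :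
    (B ≤ 2 * N → c < p ^ (3 * c.factorization p)) ∧
    (3 * B ≤ 5 * N → c ^ 3 < p ^ (8 * c.factorization p)) := by
  have hdvd : q ^ N ∣ c := by
    refine (Nat.Coprime.pow_left N hd).dvd_of_dvd_mul_left ?_
    rw [heq]; exact dvd_mul_right _ _
  have hq0 : 0 < q ^ N := by
    rcases Nat.eq_zero_or_pos (q ^ N) with h | h
    · rw [h, zero_mul] at heq
      exact absurd heq (Nat.mul_pos hd0 hc).ne'
    · exact h
  have hlt : c < q ^ (N + B) := by
    calc c ≤ d * c := Nat.le_mul_of_pos_left _ hd0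
      _ = q ^ N * P := heq
      _ < q ^ N * q ^ B := Nat.mul_lt_mul_of_pos_left hP hq0
      _ = q ^ (N + B) := (pow_add _ _ _).symm
  obtain ⟨h1, h2⟩ := both_bounds hp hq hc hdvd hlt
  exact ⟨fun h => h1 (by omega), fun h => h2 (by omega)⟩

/-- Exact `p`-part from an order formula `d * c = q^N * P` with `d`, `P` prime to `p`. -/
theorem factorization_of_eq {p : ℕ} (hp : p.Prime) {q e N c d P : ℕ} (hq : q = p ^ e) (hc : 0 < c)
    (heq : d * c = q ^ N * P) (hd : Nat.Coprime p d) (hd0 : 0 < d) (hP : Nat.Coprime p P) :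
    c.factorization p = e * N := by
  subst hq
  have hP0 : P ≠ 0 := by
    rintro rfl
    rw [mul_zero] at heq
    exact absurd heq (Nat.mul_pos hd0 hc).ne'
  have hpe : (p ^ e) ^ N ≠ 0 := pow_ne_zero _ (pow_ne_zero _ hp.ne_zero)
  have h1 : (d * c).factorization p = c.factorization p := by
    rw [Nat.factorization_mul hd0.ne' hc.ne', Finsupp.add_apply,
      Nat.factorization_eq_zero_of_not_dvd (fun h => hp.one_lt.ne' (Nat.Coprime.eq_one_of_dvd hd h)),
      zero_add]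
  have h2 : ((p ^ e) ^ N * P).factorization p = e * N := by
    rw [Nat.factorization_mul hpe hP0, Finsupp.add_apply,
      Nat.factorization_eq_zero_of_not_dvd (fun h => hp.one_lt.ne' (Nat.Coprime.eq_one_of_dvd hP h)),
      add_zero, ← pow_mul, Nat.factorization_pow, Finsupp.smul_apply, hp.factorization_self,
      smul_eq_mul, mul_one]
  rw [← h1, heq, h2]

theorem cop_sub {q a d : ℕ} (hq : 1 ≤ q) (ha : 1 ≤ a) (hd : d ∣ q ^ a - 1) : Nat.Coprime q d := by
  have h1 : Nat.Coprime (q ^ a) (q ^ a - 1) := by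
    rw [Nat.coprime_self_sub_right (Nat.one_le_pow _ _ hq)]
    exact Nat.coprime_one_right _
  exact (h1.coprime_dvd_left (dvd_pow_self q (by omega))).coprime_dvd_right hd

theorem cop_add {q a d : ℕ} (ha : 1 ≤ a) (hd : d ∣ q ^ a + 1) : Nat.Coprime q d := by
  have h1 : Nat.Coprime (q ^ a) (q ^ a + 1) := by simp
  exact (h1.coprime_dvd_left (dvd_pow_self q (by omega))).coprime_dvd_right hd

theorem sub_one_lt_pow {q a : ℕ} (hq : 2 ≤ q) : q ^ a - 1 < q ^ a :=
  Nat.sub_lt (Nat.pow_pos (by omega)) one_pos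

theorem add_one_lt_pow {q a : ℕ} (hq : 2 ≤ q) (ha : 1 ≤ a) : q ^ a + 1 < q ^ (a + 1) := by
  have h1 : 2 ≤ q ^ a := by
    calc 2 ≤ q := hq
      _ = q ^ 1 := (pow_one q).symm
      _ ≤ q ^ a := Nat.pow_le_pow_right (by omega) ha
  have h2 : q ^ (a + 1) = q ^ a * q := pow_succ q a
  nlinarith

theorem mul_lt_pow {q x y a b : ℕ} (hx : x < q ^ a) (hy : y < q ^ b) : x * y < q ^ (a + b) := by
  rw [pow_add]; exact Nat.mul_lt_mul'' hx hy

theorem mul_le_lt_pow {q x y a b : ℕ} (hq : 2 ≤ q) (hx : x ≤ q ^ a) (hy : y < q ^ b) :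
    x * y < q ^ (a + b) := by
  rw [pow_add]; exact Nat.mul_lt_mul_of_le_of_lt hx hy (Nat.pow_pos (by omega))

/-- `(q^a - 1)(q^(a+1) + 1) < q^(2a+1)`. -/
theorem pair_lt {q a : ℕ} (hq : 2 ≤ q) : (q ^ a - 1) * (q ^ (a + 1) + 1) < q ^ (a + (a + 1)) := by
  have h0 : 1 ≤ q ^ a := Nat.one_le_pow _ _ (by omega)
  obtain ⟨x, hx⟩ : ∃ x, q ^ a = x + 1 := ⟨q ^ a - 1, by omega⟩
  have h2 : q ^ (a + 1) = q ^ a * q := pow_succ q a
  rw [show q ^ (a + (a + 1)) = q ^ a * (q ^ a * q) by ring, h2, hx, Nat.add_sub_cancel]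
  nlinarith [Nat.zero_le x]

/-- `q` is a power of `p` when `q^j` is. -/
theorem eq_pow_of_pow_eq {p : ℕ} (hp : p.Prime) {q j f : ℕ} (hj : 1 ≤ j) (h : q ^ j = p ^ f) :
    ∃ e, q = p ^ e := by
  have : q ∣ p ^ f := h ▸ dvd_pow_self q (by omega)
  obtain ⟨e, -, he⟩ := (Nat.dvd_prime_pow hp).mp this
  exact ⟨e, he⟩

/-- The order of a finite field of characteristic `p` is a power of `p`. -/
theorem card_eq_pow (F : Type*) [Field F] [Fintype F] (p : ℕ) [CharP F p] :
    ∃ f, Fintype.card F = p ^ f := by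
  obtain ⟨n, -, hn⟩ := FiniteField.card F p
  exact ⟨n, hn⟩

end Cfsg.Agent.Lib.Helper5.LieOrd
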