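import Cfsg.Agent.Lib.Helper5.LieOrd.Prods
import Cfsg.Agent.S1059
import Cfsg.Agent.S1062
import Cfsg.Agent.S1063
import Cfsg.Agent.S1064
import Cfsg.Agent.S1065
import Cfsg.Agent.S1066
import Cfsg.Agent.S1067
import Cfsg.Agent.S1068
import Cfsg.Agent.S1069
import Cfsg.Agent.S1163

set_option autoImplicit false

namespace Cfsg.Agent.Lib.Helper5.LieOrd

open Finset

variable {p : ℕ}

theorem sub_one_lt_pow_one {q : ℕ} (hq : 2 ≤ q) : q - 1 < q ^ 1 := by rw [pow_one]; omega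

theorem d4_factor_lt {q : ℕ} (hq : 2 ≤ q) : q ^ 8 + q ^ 4 + 1 < q ^ 9 := by
  have h4 : 2 ≤ q ^ 4 := by
    calc 2 ≤ q := hq
      _ = q ^ 1 := (pow_one q).symm
      _ ≤ q ^ 4 := Nat.pow_le_pow_right (by omega) (by norm_num)
  have h8 : q ^ 8 = q ^ 4 * q ^ 4 := by ring
  have h9 : q ^ 9 = q * (q ^ 4 * q ^ 4) := by ring
  rw [h8, h9]
  nlinarith

theorem g2_bounds (hp : p.Prime) (F : Type) [Field F] [Fintype F] [CharP F p] :
    Nat.card (Cfsg.Lie.chevG2.group F) < p ^ (3 * (Nat.card (Cfsg.Lie.chevG2.group F)).factorization p) ∧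
    Nat.card (Cfsg.Lie.chevG2.group F) ^ 3 < p ^ (8 * (Nat.card (Cfsg.Lie.chevG2.group F)).factorization p) := by
  obtain ⟨e, he⟩ := card_eq_pow F p
  obtain ⟨q, hqF⟩ : ∃ q, Fintype.card F = q := ⟨_, rfl⟩
  rw [hqF] at he
  have hq2 : 2 ≤ q := hqF ▸ Fintype.one_lt_card
  obtain ⟨c, hc⟩ : ∃ c, c = Nat.card (Cfsg.Lie.chevG2.group F) := ⟨_, rfl⟩
  have hc0 : 0 < c := hc ▸ Nat.card_pos
  have heq := Cfsg.Agent.S1059.result (F := F) hqF
  rw [← hc] at heq ⊢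
  simp only [mul_assoc] at heq
  have heq' : 1 * c = _ := (one_mul c).trans heq
  obtain ⟨b1, b2⟩ := bounds_of_eq hp he hc0 heq' (Nat.coprime_one_right q) one_pos
    (mul_lt_pow (sub_one_lt_pow hq2) (sub_one_lt_pow hq2))
  exact ⟨b1 (by norm_num), b2 (by norm_num)⟩

theorem f4_bounds (hp : p.Prime) (F : Type) [Field F] [Fintype F] [CharP F p] :
    Nat.card (Cfsg.Lie.chevF4.group F) < p ^ (3 * (Nat.card (Cfsg.Lie.chevF4.group F)).factorization p) ∧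
    Nat.card (Cfsg.Lie.chevF4.group F) ^ 3 < p ^ (8 * (Nat.card (Cfsg.Lie.chevF4.group F)).factorization p) := by
  obtain ⟨e, he⟩ := card_eq_pow F p
  obtain ⟨q, hqF⟩ : ∃ q, Fintype.card F = q := ⟨_, rfl⟩
  rw [hqF] at he
  have hq2 : 2 ≤ q := hqF ▸ Fintype.one_lt_card
  obtain ⟨c, hc⟩ : ∃ c, c = Nat.card (Cfsg.Lie.chevF4.group F) := ⟨_, rfl⟩
  have hc0 : 0 < c := hc ▸ Nat.card_pos
  have heq := Cfsg.Agent.S1062.result (F := F) hqF
  rw [← hc] at heq ⊢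
  simp only [mul_assoc] at heq
  have heq' : 1 * c = _ := (one_mul c).trans heq
  obtain ⟨b1, b2⟩ := bounds_of_eq hp he hc0 heq' (Nat.coprime_one_right q) one_pos
    (mul_lt_pow (sub_one_lt_pow hq2) (mul_lt_pow (sub_one_lt_pow hq2)
      (mul_lt_pow (sub_one_lt_pow hq2) (sub_one_lt_pow hq2))))
  exact ⟨b1 (by norm_num), b2 (by norm_num)⟩

theorem e6_bounds (hp : p.Prime) (F : Type) [Field F] [Fintype F] [CharP F p] :
    Nat.card (Cfsg.Lie.chevE6.group F) < p ^ (3 * (Nat.card (Cfsg.Lie.chevE6.group F)).factorization p) ∧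
    Nat.card (Cfsg.Lie.chevE6.group F) ^ 3 < p ^ (8 * (Nat.card (Cfsg.Lie.chevE6.group F)).factorization p) := by
  obtain ⟨e, he⟩ := card_eq_pow F p
  obtain ⟨q, hqF⟩ : ∃ q, Fintype.card F = q := ⟨_, rfl⟩
  rw [hqF] at he
  have hq2 : 2 ≤ q := hqF ▸ Fintype.one_lt_card
  obtain ⟨c, hc⟩ : ∃ c, c = Nat.card (Cfsg.Lie.chevE6.group F) := ⟨_, rfl⟩
  have hc0 : 0 < c := hc ▸ Nat.card_pos
  have heq := Cfsg.Agent.S1063.result (F := F) hqF
  rw [← hc] at heq ⊢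
  simp only [mul_assoc] at heq
  have hcop : Nat.Coprime q (Nat.gcd 3 (q - 1)) :=
    cop_sub (a := 1) (by omega) le_rfl (by rw [pow_one]; exact Nat.gcd_dvd_right _ _)
  have hd0 : 0 < Nat.gcd 3 (q - 1) := Nat.gcd_pos_of_pos_left _ (by omega)
  obtain ⟨b1, b2⟩ := bounds_of_eq hp he hc0 heq hcop hd0
    (mul_lt_pow (sub_one_lt_pow hq2) (mul_lt_pow (sub_one_lt_pow hq2)
      (mul_lt_pow (sub_one_lt_pow hq2) (mul_lt_pow (sub_one_lt_pow hq2)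
        (mul_lt_pow (sub_one_lt_pow hq2) (sub_one_lt_pow hq2))))))
  exact ⟨b1 (by norm_num), b2 (by norm_num)⟩

theorem e7_bounds (hp : p.Prime) (F : Type) [Field F] [Fintype F] [CharP F p] :
    Nat.card (Cfsg.Lie.chevE7.group F) < p ^ (3 * (Nat.card (Cfsg.Lie.chevE7.group F)).factorization p) ∧
    Nat.card (Cfsg.Lie.chevE7.group F) ^ 3 < p ^ (8 * (Nat.card (Cfsg.Lie.chevE7.group F)).factorization p) := by
  obtain ⟨e, he⟩ := card_eq_pow F p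
  obtain ⟨q, hqF⟩ : ∃ q, Fintype.card F = q := ⟨_, rfl⟩
  rw [hqF] at he
  have hq2 : 2 ≤ q := hqF ▸ Fintype.one_lt_card
  obtain ⟨c, hc⟩ : ∃ c, c = Nat.card (Cfsg.Lie.chevE7.group F) := ⟨_, rfl⟩
  have hc0 : 0 < c := hc ▸ Nat.card_pos
  have heq := Cfsg.Agent.S1064.result (F := F) hqF
  rw [← hc] at heq ⊢
  simp only [mul_assoc] at heq
  have hcop : Nat.Coprime q (Nat.gcd 2 (q - 1)) :=
    cop_sub (a := 1) (by omega) le_rfl (by rw [pow_one]; exact Nat.gcd_dvd_right _ _)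
  have hd0 : 0 < Nat.gcd 2 (q - 1) := Nat.gcd_pos_of_pos_left _ (by omega)
  obtain ⟨b1, b2⟩ := bounds_of_eq hp he hc0 heq hcop hd0
    (mul_lt_pow (sub_one_lt_pow hq2) (mul_lt_pow (sub_one_lt_pow hq2)
      (mul_lt_pow (sub_one_lt_pow hq2) (mul_lt_pow (sub_one_lt_pow hq2)
        (mul_lt_pow (sub_one_lt_pow hq2) (mul_lt_pow (sub_one_lt_pow hq2) (sub_one_lt_pow hq2)))))))
  exact ⟨b1 (by norm_num), b2 (by norm_num)⟩

theorem e8_bounds (hp : p.Prime) (F : Type) [Field F] [Fintype F] [CharP F p] :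
    Nat.card (Cfsg.Lie.chevE8.group F) < p ^ (3 * (Nat.card (Cfsg.Lie.chevE8.group F)).factorization p) ∧
    Nat.card (Cfsg.Lie.chevE8.group F) ^ 3 < p ^ (8 * (Nat.card (Cfsg.Lie.chevE8.group F)).factorization p) := by
  obtain ⟨e, he⟩ := card_eq_pow F p
  obtain ⟨q, hqF⟩ : ∃ q, Fintype.card F = q := ⟨_, rfl⟩
  rw [hqF] at he
  have hq2 : 2 ≤ q := hqF ▸ Fintype.one_lt_card
  obtain ⟨c, hc⟩ : ∃ c, c = Nat.card (Cfsg.Lie.chevE8.group F) := ⟨_, rfl⟩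
  have hc0 : 0 < c := hc ▸ Nat.card_pos
  have heq := Cfsg.Agent.S1065.result (F := F) hqF
  rw [← hc] at heq ⊢
  simp only [mul_assoc] at heq
  have heq' : 1 * c = _ := (one_mul c).trans heq
  obtain ⟨b1, b2⟩ := bounds_of_eq hp he hc0 heq' (Nat.coprime_one_right q) one_pos
    (mul_lt_pow (sub_one_lt_pow hq2) (mul_lt_pow (sub_one_lt_pow hq2)
      (mul_lt_pow (sub_one_lt_pow hq2) (mul_lt_pow (sub_one_lt_pow hq2)
        (mul_lt_pow (sub_one_lt_pow hq2) (mul_lt_pow (sub_one_lt_pow hq2)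
          (mul_lt_pow (sub_one_lt_pow hq2) (sub_one_lt_pow hq2))))))))
  exact ⟨b1 (by norm_num), b2 (by norm_num)⟩

theorem twE6_bounds (hp : p.Prime) (K : Type) [Field K] [Fintype K] [CharP K p] (q : ℕ)
    (hq : IsPrimePow q) (hK : Fintype.card K = q ^ 2) :
    Nat.card (Cfsg.Lie.twistedE6 K q) < p ^ (3 * (Nat.card (Cfsg.Lie.twistedE6 K q)).factorization p) ∧
    Nat.card (Cfsg.Lie.twistedE6 K q) ^ 3 < p ^ (8 * (Nat.card (Cfsg.Lie.twistedE6 K q)).factorization p) := by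
  obtain ⟨f, hf⟩ := card_eq_pow K p
  rw [hK] at hf
  obtain ⟨e, he⟩ := eq_pow_of_pow_eq hp (j := 2) (by norm_num) hf
  have hq2 : 2 ≤ q := hq.two_le
  obtain ⟨c, hc⟩ : ∃ c, c = Nat.card (Cfsg.Lie.twistedE6 K q) := ⟨_, rfl⟩
  have hc0 : 0 < c := hc ▸ Nat.card_pos
  have heq := Cfsg.Agent.S1066.result (K := K) hq hK
  rw [← hc] at heq ⊢
  simp only [mul_assoc] at heq
  have hcop : Nat.Coprime q (Nat.gcd 3 (q + 1)) :=
    cop_add (a := 1) le_rfl (by rw [pow_one]; exact Nat.gcd_dvd_right _ _)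
  have hd0 : 0 < Nat.gcd 3 (q + 1) := Nat.gcd_pos_of_pos_left _ (by omega)
  obtain ⟨b1, b2⟩ := bounds_of_eq hp he hc0 heq hcop hd0
    (mul_lt_pow (sub_one_lt_pow hq2) (mul_lt_pow (add_one_lt_pow hq2 (by norm_num))
      (mul_lt_pow (sub_one_lt_pow hq2) (mul_lt_pow (sub_one_lt_pow hq2)
        (mul_lt_pow (add_one_lt_pow hq2 (by norm_num)) (sub_one_lt_pow hq2))))))
  exact ⟨b1 (by norm_num), b2 (by norm_num)⟩

theorem twD4_bounds (hp : p.Prime) (K : Type) [Field K] [Fintype K] [CharP K p] (q : ℕ)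
    (hq : IsPrimePow q) (hK : Fintype.card K = q ^ 3) :
    Nat.card (Cfsg.Lie.twistedD4 K q) < p ^ (3 * (Nat.card (Cfsg.Lie.twistedD4 K q)).factorization p) ∧
    Nat.card (Cfsg.Lie.twistedD4 K q) ^ 3 < p ^ (8 * (Nat.card (Cfsg.Lie.twistedD4 K q)).factorization p) := by
  obtain ⟨f, hf⟩ := card_eq_pow K p
  rw [hK] at hf
  obtain ⟨e, he⟩ := eq_pow_of_pow_eq hp (j := 3) (by norm_num) hf
  have hq2 : 2 ≤ q := hq.two_le
  obtain ⟨c, hc⟩ : ∃ c, c = Nat.card (Cfsg.Lie.twistedD4 K q) := ⟨_, rfl⟩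
  have hc0 : 0 < c := hc ▸ Nat.card_pos
  have heq := Cfsg.Agent.S1067.result (K := K) hq hK
  rw [← hc] at heq ⊢
  simp only [mul_assoc] at heq
  have heq' : 1 * c = _ := (one_mul c).trans heq
  obtain ⟨b1, b2⟩ := bounds_of_eq hp he hc0 heq' (Nat.coprime_one_right q) one_pos
    (mul_lt_pow (sub_one_lt_pow hq2) (mul_lt_pow (sub_one_lt_pow hq2) (d4_factor_lt hq2)))
  exact ⟨b1 (by norm_num), b2 (by norm_num)⟩

theorem twF4_bounds (K : Type) [Field K] [Fintype K] (m : ℕ) (hK : Fintype.card K = 2 ^ (2 * m + 1)) :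
    Nat.card (Cfsg.Lie.twistedF4 K (2 ^ m)) <
      2 ^ (3 * (Nat.card (Cfsg.Lie.twistedF4 K (2 ^ m))).factorization 2) ∧
    Nat.card (Cfsg.Lie.twistedF4 K (2 ^ m)) ^ 3 <
      2 ^ (8 * (Nat.card (Cfsg.Lie.twistedF4 K (2 ^ m))).factorization 2) := by
  obtain ⟨q, hq⟩ : ∃ q, q = 2 ^ (2 * m + 1) := ⟨_, rfl⟩
  have hq2 : 2 ≤ q := by
    rw [hq]
    calc 2 = 2 ^ 1 := (pow_one 2).symm
      _ ≤ 2 ^ (2 * m + 1) := Nat.pow_le_pow_right (by norm_num) (by omega)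
  obtain ⟨c, hc⟩ : ∃ c, c = Nat.card (Cfsg.Lie.twistedF4 K (2 ^ m)) := ⟨_, rfl⟩
  have hc0 : 0 < c := hc ▸ Nat.card_pos
  have heq := Cfsg.Agent.S1068.result (K := K) hK
  rw [← hc, ← hq] at heq
  rw [← hc]
  simp only [mul_assoc] at heq
  have heq' : 1 * c = _ := (one_mul c).trans heq
  obtain ⟨b1, b2⟩ := bounds_of_eq Nat.prime_two hq hc0 heq' (Nat.coprime_one_right q) one_pos
    (mul_lt_pow (sub_one_lt_pow_one hq2) (mul_lt_pow (add_one_lt_pow hq2 (by norm_num))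
      (mul_lt_pow (sub_one_lt_pow hq2) (add_one_lt_pow hq2 (by norm_num)))))
  exact ⟨b1 (by norm_num), b2 (by norm_num)⟩

theorem twG2_bounds (K : Type) [Field K] [Fintype K] (m : ℕ) (hK : Fintype.card K = 3 ^ (2 * m + 1)) :
    Nat.card (Cfsg.Lie.twistedG2 K (3 ^ m)) <
      3 ^ (3 * (Nat.card (Cfsg.Lie.twistedG2 K (3 ^ m))).factorization 3) ∧
    Nat.card (Cfsg.Lie.twistedG2 K (3 ^ m)) ^ 3 <
      3 ^ (8 * (Nat.card (Cfsg.Lie.twistedG2 K (3 ^ m))).factorization 3) := by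
  obtain ⟨q, hq⟩ : ∃ q, q = 3 ^ (2 * m + 1) := ⟨_, rfl⟩
  have hq2 : 2 ≤ q := by
    rw [hq]
    calc 2 ≤ 3 ^ 1 := by norm_num
      _ ≤ 3 ^ (2 * m + 1) := Nat.pow_le_pow_right (by norm_num) (by omega)
  obtain ⟨c, hc⟩ : ∃ c, c = Nat.card (Cfsg.Lie.twistedG2 K (3 ^ m)) := ⟨_, rfl⟩
  have hc0 : 0 < c := hc ▸ Nat.card_pos
  have heq := Cfsg.Agent.S1069.result (K := K) hK
  rw [← hc, ← hq] at heq
  rw [← hc]
  simp only [mul_assoc] at heq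
  have heq' : 1 * c = _ := (one_mul c).trans heq
  obtain ⟨b1, b2⟩ := bounds_of_eq Nat.prime_three hq hc0 heq' (Nat.coprime_one_right q) one_pos
    (mul_lt_pow (sub_one_lt_pow_one hq2) (add_one_lt_pow hq2 (by norm_num)))
  exact ⟨b1 (by norm_num), b2 (by norm_num)⟩

theorem sz_bounds (F : Type) [Field F] [Fintype F] (m : ℕ) (hm : 1 ≤ m)
    (hF : Fintype.card F = 2 ^ (2 * m + 1)) :
    Nat.card (Cfsg.Lie.Sz F (2 ^ (m + 1))) <
      2 ^ (3 * (Nat.card (Cfsg.Lie.Sz F (2 ^ (m + 1)))).factorization 2) ∧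
    Nat.card (Cfsg.Lie.Sz F (2 ^ (m + 1))) ^ 3 <
      2 ^ (8 * (Nat.card (Cfsg.Lie.Sz F (2 ^ (m + 1)))).factorization 2) := by
  obtain ⟨q, hq⟩ : ∃ q, q = 2 ^ (2 * m + 1) := ⟨_, rfl⟩
  have hq2 : 2 ≤ q := by
    rw [hq]
    calc 2 = 2 ^ 1 := (pow_one 2).symm
      _ ≤ 2 ^ (2 * m + 1) := Nat.pow_le_pow_right (by norm_num) (by omega)
  obtain ⟨c, hc⟩ : ∃ c, c = Nat.card (Cfsg.Lie.Sz F (2 ^ (m + 1))) := ⟨_, rfl⟩
  have hc0 : 0 < c := hc ▸ Nat.card_pos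
  have heq := (Cfsg.Agent.S1163.result (F := F) hm hF).1
  rw [← hc, ← hq] at heq
  rw [← hc]
  simp only [mul_assoc] at heq
  have heq' : 1 * c = _ := (one_mul c).trans heq
  have hpair : (q - 1) * (q ^ 2 + 1) < q ^ (1 + (1 + 1)) := by
    have := pair_lt (q := q) (a := 1) hq2
    rwa [pow_one] at this
  obtain ⟨b1, b2⟩ := bounds_of_eq Nat.prime_two hq hc0 heq' (Nat.coprime_one_right q) one_pos hpair
  exact ⟨b1 (by norm_num), b2 (by norm_num)⟩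

end Cfsg.Agent.Lib.Helper5.LieOrd
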