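import Cfsg.Agent.Lib.Helper5.LieOrd.Core

set_option autoImplicit false

namespace Cfsg.Agent.Lib.Helper5.LieOrd

open Finset

theorem prod_sub_one_le {q : ℕ} (f : ℕ → ℕ) (k : ℕ) :
    ∏ i ∈ range k, (q ^ (f i) - 1) ≤ q ^ (∑ i ∈ range k, f i) := by
  induction k with
  | zero => simp
  | succ k ih =>
    rw [prod_range_succ, sum_range_succ, pow_add]
    exact Nat.mul_le_mul ih (Nat.sub_le _ _)

theorem prod_sub_one_lt {q : ℕ} (hq : 2 ≤ q) (f : ℕ → ℕ) (k : ℕ) (hk : 1 ≤ k) :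
    ∏ i ∈ range k, (q ^ (f i) - 1) < q ^ (∑ i ∈ range k, f i) := by
  obtain ⟨k, rfl⟩ : ∃ j, k = j + 1 := ⟨k - 1, by omega⟩
  rw [prod_range_succ, sum_range_succ]
  exact mul_le_lt_pow hq (prod_sub_one_le f k) (sub_one_lt_pow hq)

theorem two_mul_sum_add_two (k : ℕ) : 2 * ∑ i ∈ range k, (i + 2) = k * (k + 3) := by
  induction k with
  | zero => simp
  | succ k ih => rw [sum_range_succ, mul_add, ih]; ring

theorem two_mul_sum_id (k : ℕ) : 2 * ∑ i ∈ range (k + 1), i = k * (k + 1) := by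
  induction k with
  | zero => simp
  | succ k ih => rw [sum_range_succ, mul_add, ih]; ring

theorem two_mul_tri (k : ℕ) : 2 * ((k + 1) * (k + 1 - 1) / 2) = k * (k + 1) := by
  rw [Nat.mul_div_cancel' (Nat.even_mul_pred_self (k + 1)).two_dvd, Nat.add_sub_cancel, mul_comm]

theorem sum_two_mul_succ (m : ℕ) : ∑ i ∈ range m, (2 * (i + 1)) = m * (m + 1) := by
  induction m with
  | zero => simp
  | succ k ih => rw [sum_range_succ, ih]; ring

/-- `∏_{i<n} (q^n - q^i) = q^(0+1+…+(n-1)) ∏_{i<n} (q^(i+1) - 1)`. -/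
theorem prod_GL (q n : ℕ) :
    ∏ i : Fin n, (q ^ n - q ^ (i : ℕ)) = q ^ (∑ i ∈ range n, i) * ∏ i ∈ range n, (q ^ (i + 1) - 1) := by
  rw [Fin.prod_univ_eq_prod_range (fun i => q ^ n - q ^ i) n, ← prod_pow_eq_pow_sum,
    ← prod_range_reflect (fun i => q ^ (i + 1) - 1) n, ← prod_mul_distrib]
  refine prod_congr rfl fun i hi => ?_
  have hi' : i < n := mem_range.mp hi
  rw [Nat.mul_sub, mul_one, ← pow_add]
  congr 2
  omega

/-- The factors of the unitary order formula. -/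
def fU (q i : ℕ) : ℕ := if Even i then q ^ (i + 1) + 1 else q ^ (i + 1) - 1

theorem fU_even {q i : ℕ} (h : Even i) : fU q i = q ^ (i + 1) + 1 := if_pos h

theorem fU_odd {q i : ℕ} (h : ¬ Even i) : fU q i = q ^ (i + 1) - 1 := if_neg h

theorem prodU_even {q : ℕ} (hq : 2 ≤ q) (t : ℕ) :
    ∏ i ∈ range (2 * t + 2), fU q (i + 1) < q ^ (∑ i ∈ range (2 * t + 2), (i + 2)) := by
  induction t with
  | zero =>
    rw [show 2 * 0 + 2 = 2 from rfl, prod_range_succ, prod_range_one, sum_range_succ, sum_range_one,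
      fU_odd (by decide), fU_even (by decide)]
    exact pair_lt hq
  | succ t ih =>
    have h := mul_lt_pow ih (pair_lt hq (a := 2 * t + 2 + 1 + 1))
    rw [show 2 * (t + 1) + 2 = (2 * t + 2) + 1 + 1 by ring, prod_range_succ, prod_range_succ,
      sum_range_succ, sum_range_succ,
      fU_odd (by rw [Nat.not_even_iff_odd]; exact ⟨t + 1, by ring⟩),
      fU_even (by exact ⟨t + 2, by ring⟩), mul_assoc]
    calc _ < _ := h
      _ = _ := by congr 1; ring

theorem prodU_lt {q : ℕ} (hq : 2 ≤ q) (k : ℕ) (hk : 2 ≤ k) :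
    ∏ i ∈ range k, fU q (i + 1) < q ^ (∑ i ∈ range k, (i + 2)) := by
  obtain ⟨m, rfl | rfl⟩ := Nat.even_or_odd' k
  · obtain ⟨t, rfl⟩ : ∃ t, m = t + 1 := ⟨m - 1, by omega⟩
    exact prodU_even hq t
  · obtain ⟨t, rfl⟩ : ∃ t, m = t + 1 := ⟨m - 1, by omega⟩
    rw [show 2 * (t + 1) + 1 = (2 * t + 2) + 1 by ring, prod_range_succ, sum_range_succ,
      fU_odd (by rw [Nat.not_even_iff_odd]; exact ⟨t + 1, by ring⟩)]
    exact mul_lt_pow (prodU_even hq t) (sub_one_lt_pow hq)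

theorem prod_GL_succ (q k : ℕ) :
    ∏ i : Fin (k + 1), (q ^ (k + 1) - q ^ (i : ℕ)) =
      (q - 1) * (q ^ (∑ i ∈ range (k + 1), i) * ∏ i ∈ range k, (q ^ (i + 2) - 1)) := by
  rw [prod_GL, prod_range_succ', zero_add, pow_one]
  ring

theorem prodU_succ (q k : ℕ) :
    ∏ i ∈ range (k + 1), (if Even i then q ^ (i + 1) + 1 else q ^ (i + 1) - 1) =
      (q + 1) * ∏ i ∈ range k, fU q (i + 1) := by
  rw [prod_range_succ', if_pos (by decide), zero_add, pow_one, mul_comm]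
  rfl

theorem dvd_of_eq_pow {p q e : ℕ} (hq : q = p ^ e) (h2 : 2 ≤ q) : p ∣ q := by
  subst hq
  rcases Nat.eq_zero_or_pos e with rfl | he
  · simp at h2
  · exact dvd_pow_self p (by omega)

end Cfsg.Agent.Lib.Helper5.LieOrd
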